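import Groth.Agent.Lib.AlgSpLci.Locus

/-!
# Base change of the Koszul locus
-/

set_option autoImplicit false
set_option backward.isDefEq.respectTransparency false
universe u

open CategoryTheory CategoryTheory.Limits AlgebraicGeometry

namespace Groth.Agent.Lib.AlgSpLci

open AlgSp (Sp yon Representable RepWith IsAlgSpace LocP Points LocPNear lci)
open AlgSp Groth.Agent.Lib.AlgSpace Groth.Agent.Lib.AlgSpMor.LocP

variable {S : Scheme.{u}}

/-- The product of two charts over a scheme is a chart of the fibre product. -/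
theorem repWith_chart_lift {P : MorphismProperty Scheme.{u}} [P.IsStableUnderBaseChange]
    [P.IsStableUnderComposition] {X Z Z' X' : Sp S} {f : X ⟶ Z} {g : Z' ⟶ Z} {fst : X' ⟶ X}
    {f' : X' ⟶ Z'} (sq : IsPullback fst f' f g) {U W Q : Over S} {a : (yon S).obj U ⟶ X}
    {c : (yon S).obj W ⟶ Z'} {u₁ : Q ⟶ U} {u₂ : Q ⟶ W}
    (sqUW : IsPullback ((yon S).map u₁) ((yon S).map u₂) (a ≫ f) (c ≫ g))
    (a' : (yon S).obj Q ⟶ X') (e1' : a' ≫ fst = (yon S).map u₁ ≫ a)
    (e2' : a' ≫ f' = (yon S).map u₂ ≫ c) (ha : RepWith P a) (hc : RepWith P c) :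
    RepWith P a' := by
  have key : IsPullback ((yon S).map (prod.lift u₁ u₂)) a'
      ((yonProdIso U W).hom ≫ prod.map a c) (prod.lift fst f') := by
    refine isPullback_of_yon (prod.hom_ext ?_ ?_) (fun T x x' h1 _ ↦ sqUW.hom_ext ?_ ?_)
      (fun T x y e ↦ ?_)
    · simp only [Category.assoc, prod.lift_fst, prod.map_fst, yonProdIso_hom_fst_assoc]
      rw [← (yon S).map_comp_assoc, prod.lift_fst, e1']
    · simp only [Category.assoc, prod.lift_snd, prod.map_snd, yonProdIso_hom_snd_assoc]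
      rw [← (yon S).map_comp_assoc, prod.lift_snd, e2']
    · simpa only [Category.assoc, ← Functor.map_comp, prod.lift_fst] using
        congr($h1 ≫ (yon S).map prod.fst)
    · simpa only [Category.assoc, ← Functor.map_comp, prod.lift_snd] using
        congr($h1 ≫ (yon S).map prod.snd)
    · have e1 : (x ≫ (yon S).map prod.fst) ≫ a = y ≫ fst := by
        simpa [yonProdIso_hom_fst_assoc, prod.lift_fst, prod.map_fst] using congr($e ≫ prod.fst)
      have e2 : (x ≫ (yon S).map prod.snd) ≫ c = y ≫ f' := by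
        simpa [yonProdIso_hom_snd_assoc, prod.lift_snd, prod.map_snd] using congr($e ≫ prod.snd)
      refine ⟨sqUW.lift (x ≫ (yon S).map prod.fst) (x ≫ (yon S).map prod.snd)
        (by rw [← Category.assoc, e1, ← Category.assoc _ c g, e2, Category.assoc, Category.assoc, sq.w]),
        ?_, ?_⟩
      · apply (cancel_mono (yonProdIso U W).hom).1
        refine prod.hom_ext ?_ ?_
        · simp only [Category.assoc, yonProdIso_hom_fst]
          rw [← Functor.map_comp, prod.lift_fst, sqUW.lift_fst]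
        · simp only [Category.assoc, yonProdIso_hom_snd]
          rw [← Functor.map_comp, prod.lift_snd, sqUW.lift_snd]
      · refine sq.hom_ext ?_ ?_
        · rw [Category.assoc, e1', ← Category.assoc, sqUW.lift_fst, e1]
        · rw [Category.assoc, e2', ← Category.assoc, sqUW.lift_snd, e2]
  exact repWith_baseChange key ((repWith_iso_comp_iff _ _ _).2 (repWith_prodMap ha hc))

/-- The Koszul locus of a morphism of flat spaces of finite presentation commutes with base
change. -/
theorem locPNear_lci_baseChange {X Y Z Z' Y' X' : Sp S} (hX : IsAlgSpace X) (hY : IsAlgSpace Y)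
    (hZ : IsAlgSpace Z) (hZ' : IsAlgSpace Z') (hY' : IsAlgSpace Y') (hX' : IsAlgSpace X')
    {f : X ⟶ Y} {q : Y ⟶ Z}
    (hp1 : LocP @Flat (f ≫ q)) (hp2 : LocP @LocallyOfFinitePresentation (f ≫ q))
    (hq1 : LocP @Flat q) (hq2 : LocP @LocallyOfFinitePresentation q)
    {g : Z' ⟶ Z} {gY : Y' ⟶ Y} {q' : Y' ⟶ Z'} (sqY : IsPullback gY q' q g)
    {gX : X' ⟶ X} {f' : X' ⟶ Y'} (sqX : IsPullback gX f' f gY) (x' : Points X') :
    LocPNear lci f' x' ↔ LocPNear lci f (Points.map gX x') := by
  have : MorphismProperty.IsStableUnderComposition (@Etale : MorphismProperty Scheme.{u}) :=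
    ⟨fun f g (_ : Etale f) (_ : Etale g) ↦ inferInstanceAs (Etale (f ≫ g))⟩
  obtain ⟨V, W, b, c, k, hb, hbs, hc, hcs, wq⟩ := exists_chart hY hZ q
  obtain ⟨U, a, h, ha, has, wf⟩ := exists_chart_over hX hY f hb hbs
  obtain ⟨W', c', hc', hcs'⟩ := hZ'.atlas
  obtain ⟨R, r₁, r₂, sqR⟩ := exists_isPullback_yon hZ.diag c (c' ≫ g)
  have wp : a ≫ f ≫ q = (yon S).map (h ≫ k) ≫ c := by
    rw [reassoc_of% wf, wq, Functor.map_comp, Category.assoc]
  have sqV := IsPullback.of_hasPullback k r₁
  have sqU := IsPullback.of_hasPullback (h ≫ k) r₁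
  let V' := pullback k r₁
  let U' := pullback (h ≫ k) r₁
  let h' : U' ⟶ V' := pullback.lift (pullback.fst (h ≫ k) r₁ ≫ h) (pullback.snd _ _)
    (by rw [Category.assoc, pullback.condition])
  have sqVW : IsPullback ((yon S).map (pullback.fst k r₁)) ((yon S).map (pullback.snd k r₁ ≫ r₂))
      (b ≫ q) (c' ≫ g) := by
    rw [wq, Functor.map_comp (yon S) (pullback.snd k r₁) r₂]
    exact (isPullback_yon sqV).paste_vert sqR
  have sqUW : IsPullback ((yon S).map (pullback.fst (h ≫ k) r₁))
      ((yon S).map (pullback.snd (h ≫ k) r₁ ≫ r₂)) (a ≫ f ≫ q) (c' ≫ g) := by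
    rw [wp, Functor.map_comp (yon S) (pullback.snd (h ≫ k) r₁) r₂]
    exact (isPullback_yon sqU).paste_vert sqR
  have sqXZ : IsPullback gX (f' ≫ q') (f ≫ q) g := sqX.paste_vert sqY
  let b' := sqY.lift ((yon S).map (pullback.fst k r₁) ≫ b)
    ((yon S).map (pullback.snd k r₁ ≫ r₂) ≫ c')
    (by simp only [Category.assoc]; exact sqVW.w)
  let a' := sqXZ.lift ((yon S).map (pullback.fst (h ≫ k) r₁) ≫ a)
    ((yon S).map (pullback.snd (h ≫ k) r₁ ≫ r₂) ≫ c')
    (by simp only [Category.assoc]; exact sqUW.w)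
  have hb' : RepWith @Etale b' :=
    repWith_chart_lift sqY sqVW b' (sqY.lift_fst _ _ _) (sqY.lift_snd _ _ _) hb hc'
  have ha' : RepWith @Etale a' :=
    repWith_chart_lift sqXZ sqUW a' (sqXZ.lift_fst _ _ _) (sqXZ.lift_snd _ _ _) ha hc'
  have has' : RepWith @Surjective a' :=
    repWith_chart_lift sqXZ sqUW a' (sqXZ.lift_fst _ _ _) (sqXZ.lift_snd _ _ _) has hcs'
  have ea : a' ≫ gX = (yon S).map (pullback.fst (h ≫ k) r₁) ≫ a := sqXZ.lift_fst _ _ _
  have wf' : a' ≫ f' = (yon S).map h' ≫ b' := by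
    refine sqY.hom_ext ?_ ?_
    · simp only [Category.assoc, b', sqY.lift_fst]
      rw [← sqX.w, reassoc_of% ea, wf, ← Functor.map_comp_assoc, ← Functor.map_comp_assoc,
        pullback.lift_fst]
    · simp only [Category.assoc, b', a', sqY.lift_snd, sqXZ.lift_snd]
      rw [← Functor.map_comp_assoc, ← Category.assoc h', pullback.lift_snd]
  obtain ⟨u', rfl⟩ := surjective_ofPt has' x'
  rw [Points.map_ofPt, ea, ofPt_yon_map_comp, locPNear_iff_isKoszulAt hX' hY' ha' hb' wf',
    locPNear_iff_isKoszulAt hX hY ha hb wf]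
  haveI : Flat k.left := hq1 b c k hb hc wq
  haveI : LocallyOfFinitePresentation k.left := hq2 b c k hb hc wq
  haveI : Flat (h.left ≫ k.left) := hp1 a c (h ≫ k) ha hc wp
  haveI : LocallyOfFinitePresentation (h.left ≫ k.left) := hp2 a c (h ≫ k) ha hc wp
  refine isKoszulAt_baseChange_iff h.left k.left r₁.left _ _ (sqV.map (Over.forget S))
    (pullback.fst (h ≫ k) r₁).left h'.left ?_ ?_ u'
  · have hw : h'.left ≫ (pullback.snd k r₁).left = (pullback.snd (h ≫ k) r₁).left := by
      rw [← Over.comp_left, pullback.lift_snd]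
    show IsPullback _ (h'.left ≫ (pullback.snd k r₁).left) _ _
    rw [hw, ← Over.comp_left]
    exact sqU.map (Over.forget S)
  · show _ ≫ _ = h'.left ≫ (pullback.fst k r₁).left
    rw [← Over.comp_left, ← Over.comp_left, pullback.lift_fst]

end Groth.Agent.Lib.AlgSpLci
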