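import Groth.Agent.Lib.AlgSpLci.Scheme
import Groth.Agent.Lib.Synt92.LciSpace
import Groth.Agent.Lib.AlgSpace.OpenSubExists
import Groth.Agent.Lib.AlgSpace.Points
import Groth.Agent.Lib.AlgSpMor.Topo

/-!
# The Koszul locus of a morphism of algebraic spaces
-/

set_option autoImplicit false
universe u

open CategoryTheory CategoryTheory.Limits AlgebraicGeometry

namespace Groth.Agent.Lib.AlgSpLci

open AlgSp (Sp yon Representable RepWith IsAlgSpace LocP Points LocPNear lci)
open AlgSp
open Groth.Agent.Lib.AlgSpace Groth.Agent.Lib.AlgSpMor.LocP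

variable {S : Scheme.{u}}

/-- Being Koszul near a point is read on any chart. -/
theorem locPNear_iff_isKoszulAt {X Y : Sp S} (hX : IsAlgSpace X) (hY : IsAlgSpace Y) {f : X ⟶ Y}
    {U V : Over S} {a : (yon S).obj U ⟶ X} {b : (yon S).obj V ⟶ Y} {h : U ⟶ V}
    (ha : RepWith @Etale a) (hb : RepWith @Etale b) (w : a ≫ f = (yon S).map h ≫ b) (u : ↥U.left) :
    LocPNear lci f (Points.ofPt a u) ↔ Synt.IsKoszulAt h.left u := by
  constructor
  · rintro ⟨W, j, hj, ⟨y, hy⟩, hl⟩
    obtain ⟨O, o, e, sq, ho⟩ := repWith_exists hj a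
    haveI : IsOpenImmersion o.left := ho
    have he : RepWith @Etale e := repWith_baseChange sq.flip ha
    have hk := hl e b (o ≫ h) he hb (by
      rw [← Category.assoc, sq.w, Category.assoc, w, Functor.map_comp, Category.assoc])
    obtain ⟨z, -, hz⟩ : u ∈ (fun p => o.left p) '' Set.univ := by
      have e' := preimage_image_map sq Set.univ
      rw [Set.image_univ, Set.preimage_univ] at e'
      exact (Set.ext_iff.1 e' u).1 ⟨y, hy⟩
    rw [← hz]
    refine (isKoszulAt_openImmersion_iff o.left h.left z).1 ?_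
    rw [← Over.comp_left]
    exact hk z
  · intro hu
    let O₀ : U.left.Opens := ⟨_, isOpen_setOf_isKoszulAt h.left⟩
    obtain ⟨W, j, hW, hj, hr⟩ := exists_open_subspace hX ((isOpenMap_ofPt ha) _ O₀.isOpen)
    obtain ⟨O, o, e, sq, ho⟩ := repWith_exists hj a
    haveI : IsOpenImmersion o.left := ho
    let O₁ : O.left.Opens := o.left ⁻¹ᵁ O₀
    let ι : AlgSpMor.Topo.opensOver O₁ ⟶ O := AlgSpMor.Topo.opensOverι O₁
    haveI : IsOpenImmersion ι.left := inferInstanceAs (IsOpenImmersion O₁.ι)
    have he : RepWith @Etale ((yon S).map ι ≫ e) :=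
      repWith_etale_comp ι (repWith_baseChange sq.flip ha)
    refine ⟨W, j, hj, hr.symm ▸ ⟨u, hu, rfl⟩,
      Synt92.LciSpace.locP_lci_of_chart hW.diag hY.diag he
        (repWith_surjective_of_points he.1 fun y => ?_) hb (h := ι ≫ o ≫ h) ?_ fun z => ?_⟩
    · obtain ⟨u', hu', hy⟩ := hr.subset ⟨y, rfl⟩
      obtain ⟨z, -, hz⟩ : u' ∈ (fun p => o.left p) '' Set.univ := by
        have e' := preimage_image_map sq Set.univ
        rw [Set.image_univ, Set.preimage_univ] at e'
        exact (Set.ext_iff.1 e' u').1 ⟨y, hy.symm⟩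
      have hz' : o.left z = u' := hz
      have hzO : z ∈ O₁ := by show o.left z ∈ O₀; rw [hz']; exact hu'
      have : Mono j :=
        mono_of_repWith (fun _ _ g (_ : IsOpenImmersion g) ↦ (inferInstance : Mono g)) hj
      refine ⟨Points.ofScheme _ ⟨z, hzO⟩, injective_map_of_mono j ?_⟩
      rw [← Points.ofPt_eq_map_ofScheme, ofPt_yon_map_comp, Points.map_ofPt, sq.w, ofPt_yon_map_comp]
      exact (congrArg (Points.ofPt a) hz).trans hy
    · rw [Category.assoc, ← Category.assoc e j f, sq.w, Category.assoc, w]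
      simp only [Functor.map_comp, Category.assoc]
    · rw [Over.comp_left]
      refine (isKoszulAt_openImmersion_iff ι.left (o ≫ h).left z).2 ?_
      rw [Over.comp_left]
      exact (isKoszulAt_openImmersion_iff o.left h.left _).2 z.2

end Groth.Agent.Lib.AlgSpLci
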