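import Groth.Agent.Lib.Synt92.LciScheme
import Groth.Agent.H68.LCIBridge
import Groth.Agent.S1494

/-!
# The Koszul locus of a morphism of schemes
-/

set_option autoImplicit false
universe u

open CategoryTheory CategoryTheory.Limits AlgebraicGeometry

namespace Groth.Agent.Lib.AlgSpLci

open Synt92 Synt92.KRImm

variable {W X Y : Scheme.{u}}

theorem isKoszulAt_openImmersion_iff (k : W ⟶ X) [IsOpenImmersion k] (f : X ⟶ Y) (w : W) :
    Synt.IsKoszulAt (k ≫ f) w ↔ Synt.IsKoszulAt f (k w) := by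
  refine ⟨LciScheme.isKoszulAt_of_openImmersion k f w, fun h => ?_⟩
  obtain ⟨U, P, i, π, hxU, hft, ⟨hi, hreg⟩, hπ, hfac⟩ := h
  haveI := hi
  haveI := hπ
  haveI := hft
  haveI : IsOpenImmersion (k ∣_ U) := inferInstance
  have e : (k ∣_ U) ≫ U.ι ≫ f = (k ⁻¹ᵁ U).ι ≫ k ≫ f := by
    rw [← Category.assoc, morphismRestrict_ι, Category.assoc]
  refine ⟨k ⁻¹ᵁ U, P, (k ∣_ U) ≫ i, π, hxU, ?_, ?_, hπ, ?_⟩
  · rw [← e]
    infer_instance
  · refine (isRegularImmersion_iff _).2 ⟨inferInstance, fun z => ?_⟩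
    obtain ⟨n, hn⟩ := (isRegularImmersionAt_iff _ _).1 (hreg ((k ∣_ U) z))
    exact ⟨n, (KRMor.atN_openImmersion_iff i (k ∣_ U) z n).2 hn⟩
  · rw [Category.assoc, hfac, e]

theorem isOpen_setOf_isKoszulAt (f : X ⟶ Y) : IsOpen {x | Synt.IsKoszulAt f x} := by
  refine isOpen_iff_forall_mem_open.2 fun x hx => ?_
  obtain ⟨U, P, i, π, hxU, hft, hi, hπ, hfac⟩ := hx
  exact ⟨U, fun y hy => ⟨U, P, i, π, hy, hft, hi, hπ, hfac⟩, U.isOpen, hxU⟩

/-- The Koszul points are those having an lci affine chart. -/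
theorem setOf_isKoszulAt_eq (f : X ⟶ Y) [LocallyOfFiniteType f] :
    {x : X | ∃ (U : X.Opens) (V : Y.Opens) (hU : IsAffineOpen U) (hV : IsAffineOpen V)
      (hUV : U ≤ f ⁻¹ᵁ V), x ∈ U ∧
        letI := (f.appLE V U hUV).hom.toAlgebra
        LCI.IsLCI Γ(Y, V) Γ(X, U)} = {x | Synt.IsKoszulAt f x} := by
  ext x
  constructor
  · rintro ⟨U, V, hU, hV, hUV, hx, h⟩
    exact (H68.LCIBridge.isLCI_appLE_iff f hU hV hUV).1 h x hx
  · intro hx
    obtain ⟨V, hV, hxV, -⟩ :=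
      exists_isAffineOpen_mem_and_subset (X := Y) (x := f x) (U := ⊤) trivial
    obtain ⟨U, hU, hxU, hle⟩ := exists_isAffineOpen_mem_and_subset (x := x)
      (U := (f ⁻¹ᵁ V) ⊓ ⟨_, isOpen_setOf_isKoszulAt f⟩) ⟨hxV, hx⟩
    refine ⟨U, V, hU, hV, fun y hy => (hle hy).1, hxU, ?_⟩
    exact (H68.LCIBridge.isLCI_appLE_iff f hU hV fun y hy => (hle hy).1).2 fun y hy => (hle hy).2

/-- The Koszul locus of a morphism of flat schemes of finite presentation commutes with base change. -/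
theorem isKoszulAt_baseChange_iff {Z X' Y' Z' : Scheme.{u}} (f : X ⟶ Y) (g : Y ⟶ Z)
    [Flat (f ≫ g)] [LocallyOfFinitePresentation (f ≫ g)] [Flat g] [LocallyOfFinitePresentation g]
    (h : Z' ⟶ Z) (gY : Y' ⟶ Y) (g' : Y' ⟶ Z') (hY : IsPullback gY g' g h)
    (gX : X' ⟶ X) (f' : X' ⟶ Y') (hX : IsPullback gX (f' ≫ g') (f ≫ g) h)
    (w : gX ≫ f = f' ≫ gY) (x' : X') :
    Synt.IsKoszulAt f' x' ↔ Synt.IsKoszulAt f (gX x') := by
  haveI : LocallyOfFiniteType f := locallyOfFiniteType_of_comp f g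
  haveI : LocallyOfFinitePresentation (f' ≫ g') :=
    MorphismProperty.of_isPullback (P := @LocallyOfFinitePresentation) hX inferInstance
  haveI : LocallyOfFiniteType f' := locallyOfFiniteType_of_comp f' g'
  have e := (Groth.Agent.S1494.result f g).2 h gY g' hY gX f' hX w
  rw [setOf_isKoszulAt_eq f, setOf_isKoszulAt_eq f'] at e
  exact Set.ext_iff.1 e x'

end Groth.Agent.Lib.AlgSpLci
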